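import Groth.Prelude.Def_W4c5normfunctorschNorm
import Groth.Prelude.Def_SymTen
import Mathlib.LinearAlgebra.PiTensorProduct.Basis
import Mathlib.LinearAlgebra.Alternating.Basic
import Mathlib.RingTheory.Finiteness.Cardinality
import Mathlib.Algebra.Module.Projective

/-! Tensors fixed by a transposition lie in the alternating span (projective modules). -/

set_option autoImplicit false
universe u
open scoped TensorProduct
open SymTen

namespace Groth.Agent.AltTen

variable {R : Type u} [CommRing R] {P Q : Type u} [AddCommGroup P] [Module R P] [AddCommGroup Q] [Module R Q] {d : ℕ}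

/-- the universal alternating map -/
noncomputable def altMk : P [⋀^Fin d]→ₗ[R] ((⨂[R] _ : Fin d, P) ⧸ altSpan R P d) :=
  { (altSpan R P d).mkQ.compMultilinearMap (PiTensorProduct.tprod R) with
    map_eq_zero_of_eq' := fun v i j h hij =>
      (Submodule.Quotient.mk_eq_zero _).mpr (Submodule.subset_span ⟨v, i, j, hij, h, rfl⟩) }

theorem tprod_add_swap_mem (p : Fin d → P) {i j : Fin d} (h : i ≠ j) :
    PiTensorProduct.tprod R p + PiTensorProduct.tprod R (p ∘ Equiv.swap i j) ∈ altSpan R P d := by
  rw [← Submodule.Quotient.mk_eq_zero, Submodule.Quotient.mk_add, add_comm]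
  exact (altMk (R := R) (P := P) (d := d)).map_swap_add p h

theorem map_altSpan (g : P →ₗ[R] Q) {x : ⨂[R] _ : Fin d, P} (hx : x ∈ altSpan R P d) :
    PiTensorProduct.map (fun _ => g) x ∈ altSpan R Q d := by
  induction hx using Submodule.span_induction with
  | mem x hx =>
    obtain ⟨p, i, j, hij, h, rfl⟩ := hx
    rw [PiTensorProduct.map_tprod]
    exact Submodule.subset_span ⟨_, i, j, hij, congrArg g h, rfl⟩
  | zero => rw [map_zero]; exact zero_mem _
  | add x y _ _ hx hy => rw [map_add]; exact add_mem hx hy
  | smul r x _ hx => rw [map_smul]; exact Submodule.smul_mem _ r hx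

theorem map_reindex' (g : P →ₗ[R] Q) (σ : Equiv.Perm (Fin d)) (z : ⨂[R] _ : Fin d, P) :
    PiTensorProduct.map (fun _ => g) (PiTensorProduct.reindex R (fun _ : Fin d => P) σ z) =
      PiTensorProduct.reindex R (fun _ : Fin d => Q) σ (PiTensorProduct.map (fun _ => g) z) := by
  induction z using PiTensorProduct.induction_on with
  | smul_tprod r f => simp [PiTensorProduct.reindex_tprod]
  | add x y hx hy => simp [hx, hy]

theorem mem_altSpan_of_swap_free {κ : Type u} [LinearOrder κ] [Finite κ] (b : Module.Basis κ R P) {i j : Fin d}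
    (h : i ≠ j) {z : ⨂[R] _ : Fin d, P}
    (hz : PiTensorProduct.reindex R (fun _ : Fin d => P) (Equiv.swap i j) z = z) : z ∈ altSpan R P d := by
  classical
  let B := Basis.piTensorProduct fun _ : Fin d => b
  let τ : (⨂[R] _ : Fin d, P) →ₗ[R] (⨂[R] _ : Fin d, P) :=
    (PiTensorProduct.reindex R (fun _ : Fin d => P) (Equiv.swap i j)).toLinearMap
  let K : (⨂[R] _ : Fin d, P) →ₗ[R] (⨂[R] _ : Fin d, P) :=
    B.constr R fun f => if f j < f i then B f else 0
  have hB : ∀ f : Fin d → κ, B f = PiTensorProduct.tprod R fun a => b (f a) := fun f =>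
    Basis.piTensorProduct_apply _ f
  have hτ : ∀ f : Fin d → κ, τ (B f) = B (f ∘ Equiv.swap i j) := fun f => by
    rw [hB, hB]
    simp only [τ, LinearEquiv.coe_coe, PiTensorProduct.reindex_tprod, Equiv.symm_swap]
    rfl
  have hL : ∀ y, y - K y + K (τ y) ∈ altSpan R P d := by
    intro y
    have : LinearMap.id - K + K ∘ₗ τ = (LinearMap.id - K + K ∘ₗ τ : (⨂[R] _ : Fin d, P) →ₗ[R] _) := rfl
    suffices hs : ⊤ ≤ (altSpan R P d).comap (LinearMap.id - K + K ∘ₗ τ) from hs (Submodule.mem_top (x := y))
    rw [← B.span_eq, Submodule.span_le]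
    rintro _ ⟨f, rfl⟩
    simp only [SetLike.mem_coe, Submodule.mem_comap, LinearMap.add_apply, LinearMap.sub_apply,
      LinearMap.id_apply, LinearMap.comp_apply, hτ, K, Module.Basis.constr_basis, Function.comp_apply,
      Equiv.swap_apply_left, Equiv.swap_apply_right]
    rcases lt_trichotomy (f i) (f j) with hlt | heq | hgt
    · rw [if_neg (not_lt.2 hlt.le), if_pos hlt, sub_zero, hB, hB]
      exact tprod_add_swap_mem (fun a => b (f a)) h
    · rw [if_neg (not_lt.2 heq.le), if_neg (not_lt.2 heq.ge), sub_zero, add_zero, hB]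
      exact Submodule.subset_span ⟨_, i, j, h, congrArg b heq, rfl⟩
    · rw [if_pos hgt, if_neg (not_lt.2 hgt.le), sub_self, zero_add]
      exact zero_mem _
  have := hL z
  rwa [show τ z = z from hz, sub_add_cancel] at this

theorem mem_altSpan_of_swap [Module.Finite R P] [Module.Projective R P] {i j : Fin d}
    (h : i ≠ j) {z : ⨂[R] _ : Fin d, P}
    (hz : PiTensorProduct.reindex R (fun _ : Fin d => P) (Equiv.swap i j) z = z) : z ∈ altSpan R P d := by
  obtain ⟨n, r, hr⟩ := Module.Finite.exists_fin' R P
  obtain ⟨s, hs⟩ := Module.projective_lifting_property r LinearMap.id hr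
  have h1 : PiTensorProduct.map (fun _ => s) z ∈ altSpan R (Fin n → R) d := by
    letI : LinearOrder (ULift.{u} (Fin n)) := LinearOrder.lift' ULift.down ULift.down_injective
    refine mem_altSpan_of_swap_free ((Pi.basisFun R (Fin n)).reindex Equiv.ulift.symm) h ?_
    rw [← map_reindex', hz]
  have h2 := map_altSpan r h1
  rwa [← LinearMap.comp_apply, ← PiTensorProduct.map_comp, hs, PiTensorProduct.map_id,
    LinearMap.id_apply] at h2

variable {A : Type u} [CommRing A] [Algebra R A] [Module A P] [IsScalarTower R A P]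

theorem tpowAct_reindex (σ : Equiv.Perm (Fin d)) (a : ⨂[R] _ : Fin d, A) (x : ⨂[R] _ : Fin d, P) :
    PiTensorProduct.reindex R (fun _ : Fin d => P) σ (tpowAct R A P d a x) =
      tpowAct R A P d (PiTensorProduct.reindex R (fun _ : Fin d => A) σ a)
        (PiTensorProduct.reindex R (fun _ : Fin d => P) σ x) := by
  induction a using PiTensorProduct.induction_on with
  | smul_tprod r f =>
    induction x using PiTensorProduct.induction_on with
    | smul_tprod r' p =>
      simp [tpowAct, PiTensorProduct.map_tprod, PiTensorProduct.reindex_tprod]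
    | add x y hx hy => simp only [map_add, hx, hy]
  | add a b ha hb => simp only [map_add, LinearMap.add_apply, ha, hb]

theorem tpowAct_mem [Module.Finite R P] [Module.Projective R P] {a : ⨂[R] _ : Fin d, A}
    (ha : ∀ σ : Equiv.Perm (Fin d), PiTensorProduct.reindex R (fun _ : Fin d => A) σ a = a)
    {x : ⨂[R] _ : Fin d, P} (hx : x ∈ altSpan R P d) : tpowAct R A P d a x ∈ altSpan R P d := by
  induction hx using Submodule.span_induction with
  | mem x hx =>
    obtain ⟨p, i, j, hij, h, rfl⟩ := hx
    refine mem_altSpan_of_swap hij ?_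
    rw [tpowAct_reindex, ha, PiTensorProduct.reindex_tprod]
    congr 2
    funext a
    simp only [Equiv.symm_swap]
    rcases eq_or_ne a i with rfl | hai
    · rw [Equiv.swap_apply_left, h]
    rcases eq_or_ne a j with rfl | haj
    · rw [Equiv.swap_apply_right, h]
    rw [Equiv.swap_apply_of_ne_of_ne hai haj]
  | zero => rw [map_zero]; exact zero_mem _
  | add x y _ _ hx hy => rw [map_add]; exact add_mem hx hy
  | smul r x _ hx => rw [map_smul]; exact Submodule.smul_mem _ r hx

end Groth.Agent.AltTen
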